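import Cfsg.Agent.Lib.TC.D.HNL.Simple
import Cfsg.Agent.Lib.TC.D.PA12C.Main

/-!
# Ten words of the presented group, satisfying the relations of the alternating group of degree 12
-/

namespace Cfsg.Agent.Lib.TC.D.HNA.W

open Cfsg.Agent.Lib.TC.Core Cfsg.Agent.Lib.TC.Enc Cfsg.Agent.Lib.TC.Pres Cfsg.Agent.Lib.TC.Perm
  Cfsg.Agent.Lib.TC.Main Cfsg.Agent.Lib.TC.Chain Cfsg.Agent.Lib.TC.Chain.PermLev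
  Cfsg.Agent.Lib.TC.Iso Cfsg.Agent.Lib.TC.D.HNO.Tab Cfsg.Agent.Lib.TC.D.HNL

set_option maxRecDepth 100000

/-- The ten words. -/
def xw : List (List Nat) :=
  [[3,1,3,3,0,3,3,1,3,3,0,3,1,3,0,3,1,3,0,3,3,1,3,3,0,3,1,3,0,3,1,2,0,2,1,3,0,3,1,3,0,3],
   [3,1,3,3,3,3,3,0,3,3,1,3,3,0,3,1,3,0,3,1,2,0,2,1,3,0,3,1,3,3,3,3,0,3],
   [3,1,3,3,0,3,3,1,3,3,0,3,1,3,0,3,1,2,0,2,1,3,0,3,1,3,3,3,3,0,3,3,1,3,3,3,0,2],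
   [3,1,3,3,0,3,3,1,3,3,3,3,3,0,3,3,1,3,3,0,3,3,1,3,3,3,3,3,0,3,3,1,3,3,0,3],
   [3,1,3,3,0,3,3,1,3,3,0,3,3,1,3,3,3,3,3,0,3,3,1,3,3,0,3,3,1,3,3,0,3,3,1,3,3,3,3,3,0,3,3,1,3,3,0,3],
   [3,1,3,3,0,3,3,1,3,3,0,3,1,3,0,3,1,2,0,2,1,3,0,3,1,3,0,3,3,1,3,0,2,1,2,0,3,1,3,3,0,3,1,3,0,3,1,2,0,2,1,3,0,3,1,3,0,3,1,3,0,3,1,3,3,0,2,1,3,0,3,1,3,0,3,3,1,3,3,3,0,3,1,1,4,3,3,3,3,4,3,3],
   [6,3,1,3,3,0,3,3,1,3,3,0,3,1,3,0,3,1,2,0,2,1,3,0,3,1,3,0,3,3,1,3,0,2,1,2,0,3,1,3,3,0,3,1,3,0,3,1,2,0,2,1,3,0,3,1,3,0,3,1,3,0,3,1,3,3,0,2,1,3,0,3,1,3,0,3,3,1,3,3,3,0,3,1,1,4,3,3,3,3,4,3,3,5],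
   [6,6,3,1,3,3,0,3,3,1,3,3,0,3,1,3,0,3,1,2,0,2,1,3,0,3,1,3,0,3,3,1,3,0,2,1,2,0,3,1,3,3,0,3,1,3,0,3,1,2,0,2,1,3,0,3,1,3,0,3,1,3,0,3,1,3,3,0,2,1,3,0,3,1,3,0,3,3,1,3,3,3,0,3,1,1,4,3,3,3,3,4,3,3,5,5],
   [6,6,6,3,1,3,3,0,3,3,1,3,3,0,3,1,3,0,3,1,2,0,2,1,3,0,3,1,3,0,3,3,1,3,0,2,1,2,0,3,1,3,3,0,3,1,3,0,3,1,2,0,2,1,3,0,3,1,3,0,3,1,3,0,3,1,3,3,0,2,1,3,0,3,1,3,0,3,3,1,3,3,3,0,3,1,1,4,3,3,3,3,4,3,3,5,5,5],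
   [6,6,6,6,3,1,3,3,0,3,3,1,3,3,0,3,1,3,0,3,1,2,0,2,1,3,0,3,1,3,0,3,3,1,3,0,2,1,2,0,3,1,3,3,0,3,1,3,0,3,1,2,0,2,1,3,0,3,1,3,0,3,1,3,0,3,1,3,3,0,2,1,3,0,3,1,3,0,3,3,1,3,3,3,0,3,1,1,4,3,3,3,3,4,3,3,5,5,5,5]]

/-- The word of a column of the presentation of the alternating group. -/
def WW (c : Nat) : List Nat :=
  if c % 2 = 0 then xw.getD (c / 2) [] else invW Cfsg.Agent.Lib.TC.G.HN.invF (xw.getD (c / 2) [])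

/-- The word of a word. -/
def relW (l : List Nat) : List Nat := l.flatMap WW

theorem hfixR : Cfsg.Agent.Lib.TC.G.PA12.rels.all
    (fun l => fixAll pt (allBase [0] C0.cl.levs) (relW l)) = true := by decide +kernel

theorem hkR : Cfsg.Agent.Lib.TC.G.PA12.rels.all
    (fun l => (relW l).all (fun z => decide (z < 7))) = true := by decide +kernel

theorem hkx : ∀ i, i < 10 → ∀ z ∈ xw.getD i [], z < 7 := by decide +kernel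

/-- The first word moves a point. -/
theorem hmove : pt.val (xw.getD 0 []) 9 ≠ 9 := by decide +kernel

end Cfsg.Agent.Lib.TC.D.HNA.W
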